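import Mathlib.RingTheory.DiscreteValuationRing.Basic
import Mathlib.NumberTheory.RamificationInertia.Ramification
import Mathlib.RingTheory.LocalRing.ResidueField.Basic
import Mathlib.RingTheory.Localization.Integral
import Mathlib.LinearAlgebra.Dimension.Finrank
import Mathlib.RingTheory.Filtration

/-!
Extensions of discrete valuation rings: ramification index and independent families.
-/

namespace Groth.Agent.DVR7

open IsLocalRing

variable {A B : Type*} [CommRing A] [IsDomain A] [IsDiscreteValuationRing A] [CommRing B]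
  [IsDomain B] [IsDiscreteValuationRing B] [Algebra A B] [IsLocalHom (algebraMap A B)]

/-- A uniformizer of the base is a unit times the ramification-index power of a uniformizer. -/
theorem exists_eq_unit_mul_pow (hinj : Function.Injective (algebraMap A B)) {π : A} (hπ : Irreducible π)
    {ϖ : B} (hϖ : Irreducible ϖ) :
    ∃ u : Bˣ, algebraMap A B π = u * ϖ ^ Ideal.ramificationIdx' (maximalIdeal A) (maximalIdeal B) ∧
      0 < Ideal.ramificationIdx' (maximalIdeal A) (maximalIdeal B) := by
  have h0 : algebraMap A B π ≠ 0 := fun e => hπ.ne_zero (hinj (e.trans (map_zero _).symm))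
  obtain ⟨n, u, hu⟩ := IsDiscreteValuationRing.eq_unit_mul_pow_irreducible h0 hϖ
  have hn : 0 < n := Nat.pos_of_ne_zero fun e => by
    subst e
    rw [pow_zero, mul_one] at hu
    exact hπ.1 (isUnit_of_map_unit (algebraMap A B) π (hu ▸ u.isUnit))
  have he : Ideal.ramificationIdx' (maximalIdeal A) (maximalIdeal B) = n := by
    have hmap : (maximalIdeal A).map (algebraMap A B) = Ideal.span {ϖ ^ n} := by
      rw [hπ.maximalIdeal_eq, Ideal.map_span, Set.image_singleton, hu, mul_comm,
        Ideal.span_singleton_mul_right_unit u.isUnit]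
    refine Ideal.ramificationIdx'_spec ?_ ?_
    · rw [hmap, hϖ.maximalIdeal_eq, Ideal.span_singleton_pow]
    · rw [hmap, hϖ.maximalIdeal_eq, Ideal.span_singleton_pow, Ideal.span_singleton_le_span_singleton,
        pow_dvd_pow_iff hϖ.ne_zero hϖ.1]
      omega
  exact ⟨u, he ▸ hu, he ▸ hn⟩

/-- The products `ϖ ^ i * b j` are independent when the residues of `b` are. -/
theorem linearIndependent_pow_mul (hinj : Function.Injective (algebraMap A B)) {ϖ : B}
    (hϖ : Irreducible ϖ) {ι : Type*} [Fintype ι] (b : ι → B)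
    (hb : LinearIndependent (ResidueField A) fun j => residue B (b j)) :
    LinearIndependent A (fun q : Fin (Ideal.ramificationIdx' (maximalIdeal A) (maximalIdeal B)) × ι =>
      ϖ ^ (q.1 : ℕ) * b q.2) := by
  classical
  obtain ⟨π, hπ⟩ := IsDiscreteValuationRing.exists_irreducible A
  obtain ⟨u, hu, hepos⟩ := exists_eq_unit_mul_pow hinj hπ hϖ
  set e := Ideal.ramificationIdx' (maximalIdeal A) (maximalIdeal B)
  have hstep : ∀ a : Fin e × ι → A, ∑ q, a q • (ϖ ^ (q.1 : ℕ) * b q.2) = 0 →
      ∀ q, a q ∈ maximalIdeal A := by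
    intro a ha
    suffices h : ∀ n, ∀ q : Fin e × ι, (q.1 : ℕ) < n → a q ∈ maximalIdeal A from
      fun q => h _ q (Nat.lt_succ_self _)
    intro n
    induction n with
    | zero => exact fun q hq => absurd hq (Nat.not_lt_zero _)
    | succ n ih =>
      intro q hq
      rcases Nat.lt_succ_iff_lt_or_eq.mp hq with hq | hq
      · exact ih q hq
      obtain ⟨i, j⟩ := q
      subst hq
      have hdvd : ∀ q : Fin e × ι, q.1 ≠ i → ϖ ^ ((i : ℕ) + 1) ∣ a q • (ϖ ^ (q.1 : ℕ) * b q.2) := by
        intro q hne
        rw [Algebra.smul_def]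
        rcases lt_or_gt_of_ne hne with hlt | hlt
        · obtain ⟨c, hc⟩ := Ideal.mem_span_singleton'.mp
            (hπ.maximalIdeal_eq ▸ ih q (Fin.lt_def.mp hlt))
          rw [← hc, map_mul, hu]
          exact ((pow_dvd_pow ϖ (show (i : ℕ) + 1 ≤ e by omega)).mul_left _).mul_left _ |>.mul_right _
        · exact ((pow_dvd_pow ϖ (Nat.succ_le_of_lt (Fin.lt_def.mp hlt))).mul_right _).mul_left _
      have hsum : ϖ ^ ((i : ℕ) + 1) ∣ ϖ ^ (i : ℕ) * ∑ j, algebraMap A B (a (i, j)) * b j := by
        have : ϖ ^ (i : ℕ) * ∑ j, algebraMap A B (a (i, j)) * b j =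
            - ∑ q ∈ Finset.univ.filter (fun q : Fin e × ι => q.1 ≠ i), a q • (ϖ ^ (q.1 : ℕ) * b q.2) := by
          rw [eq_neg_iff_add_eq_zero, ← ha,
            ← Finset.sum_filter_add_sum_filter_not Finset.univ (fun q : Fin e × ι => q.1 = i)]
          congr 1
          rw [Finset.mul_sum]
          refine Finset.sum_bij (fun j _ => (i, j)) (by simp) (by simp) ?_ ?_
          · intro q hq
            simp only [Finset.mem_filter, Finset.mem_univ, true_and] at hq
            exact ⟨q.2, Finset.mem_univ _, by rw [← hq]⟩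
          · intro j _
            rw [Algebra.smul_def]
            ring
        rw [this]
        exact (Finset.dvd_sum fun q hq => hdvd q (Finset.mem_filter.mp hq).2).neg_right
      rw [pow_succ, mul_dvd_mul_iff_left (pow_ne_zero _ hϖ.ne_zero)] at hsum
      have h0 : ∑ j, residue A (a (i, j)) • residue B (b j) = 0 := by
        have h1 : residue B (∑ j, algebraMap A B (a (i, j)) * b j) = 0 := by
          rw [residue_eq_zero_iff, hϖ.maximalIdeal_eq]
          exact Ideal.mem_span_singleton.mpr hsum
        rw [← h1, map_sum]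
        exact Finset.sum_congr rfl fun j _ => by rw [map_mul, Algebra.smul_def]; rfl
      exact (residue_eq_zero_iff _).mp (Fintype.linearIndependent_iff.mp hb _ h0 j)
  rw [Fintype.linearIndependent_iff]
  intro a ha q
  suffices h : ∀ n : ℕ, ∀ a : Fin e × ι → A, ∑ q, a q • (ϖ ^ (q.1 : ℕ) * b q.2) = 0 →
      ∀ q, a q ∈ maximalIdeal A ^ n by
    have := (Ideal.mem_iInf (ι := ℕ)).mpr fun n => h n a ha q
    rwa [Ideal.iInf_pow_eq_bot_of_isLocalRing _ (maximalIdeal.isMaximal A).ne_top,
      Ideal.mem_bot] at this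
  intro n
  induction n with
  | zero => simp
  | succ n ih =>
    intro a ha q
    have hd := hstep a ha
    choose c hc using fun q => Ideal.mem_span_singleton'.mp (hπ.maximalIdeal_eq ▸ hd q)
    have hc0 : ∑ q, c q • (ϖ ^ (q.1 : ℕ) * b q.2) = 0 := by
      refine mul_left_cancel₀ (a := algebraMap A B π)
        (fun e => hπ.ne_zero (hinj (e.trans (map_zero _).symm))) ?_
      rw [mul_zero, Finset.mul_sum, ← ha]
      exact Finset.sum_congr rfl fun q _ => by rw [Algebra.smul_def, Algebra.smul_def, ← hc q, map_mul]; ring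
    rw [← hc q, pow_succ]
    exact Ideal.mul_mem_mul (ih c hc0 q) (hπ.maximalIdeal_eq ▸ Ideal.mem_span_singleton_self π)

end Groth.Agent.DVR7
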